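import Mathlib

set_option autoImplicit false
universe u

namespace Groth.Agent.DecompCplLib

open IsLocalRing

variable {A : Type u} [CommRing A] [IsLocalRing A] [IsNoetherianRing A]

local notation "Â" => AdicCompletion (maximalIdeal A) A

theorem pow_eq (n : ℕ) :
    maximalIdeal Â ^ n = (maximalIdeal A ^ n).map (algebraMap A Â) := by
  rw [AdicCompletion.maximalIdeal_eq_map, Ideal.map_pow]

theorem mem_pow_iff (n : ℕ) (x : Â) :
    x ∈ maximalIdeal Â ^ n ↔ AdicCompletion.evalₐ (maximalIdeal A) n x = 0 := by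
  have h : (maximalIdeal A ^ n • ⊤ : Ideal A) = maximalIdeal A ^ n := by ext; simp
  rw [pow_eq, ← Submodule.restrictScalars_mem A, ← Ideal.smul_top_eq_map,
    AdicCompletion.pow_smul_top_eq_ker_eval (maximalIdeal A).fg_of_isNoetherianRing, LinearMap.mem_ker]
  exact (map_eq_zero_iff (Ideal.quotientEquivAlgOfEq A h) (AlgEquiv.injective _)).symm

theorem algebraMap_mem_pow_iff (n : ℕ) (a : A) :
    algebraMap A Â a ∈ maximalIdeal Â ^ n ↔ a ∈ maximalIdeal A ^ n := by
  rw [mem_pow_iff, AlgHom.commutes, Ideal.Quotient.algebraMap_eq, Ideal.Quotient.eq_zero_iff_mem]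

theorem exists_approx (n : ℕ) (x : Â) : ∃ a : A, x - algebraMap A Â a ∈ maximalIdeal Â ^ n := by
  obtain ⟨a, ha⟩ := Ideal.Quotient.mk_surjective (AdicCompletion.evalₐ (maximalIdeal A) n x)
  refine ⟨a, ?_⟩
  rw [mem_pow_iff, map_sub, AlgHom.commutes, Ideal.Quotient.algebraMap_eq, ha, sub_self]

theorem eq_of_forall_sub_mem {x y : Â} (h : ∀ n, x - y ∈ maximalIdeal Â ^ n) : x = y :=
  AdicCompletion.ext_evalₐ fun n => by
    rw [← sub_eq_zero, ← map_sub]
    exact (mem_pow_iff n _).1 (h n)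

theorem exists_limit (f : ℕ → Â) (hf : ∀ {m n : ℕ}, m ≤ n → f m - f n ∈ maximalIdeal Â ^ m) :
    ∃ L : Â, ∀ n, f n - L ∈ maximalIdeal Â ^ n := by
  obtain ⟨L, hL⟩ := IsPrecomplete.prec (I := maximalIdeal Â) (M := Â) inferInstance (f := f)
    fun {m n} h => by rw [SModEq.sub_mem, smul_eq_mul, Ideal.mul_top]; exact hf h
  exact ⟨L, fun n => by simpa [SModEq.sub_mem, smul_eq_mul, Ideal.mul_top] using hL n⟩

end Groth.Agent.DecompCplLib
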