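import Mathlib

set_option autoImplicit false
universe u

namespace Groth.Agent.DecompCplLib

open scoped Pointwise
open IsLocalRing MulAction

variable {R S G : Type u} [CommRing R] [CommRing S] [IsNoetherianRing R] [Algebra R S] [Module.Finite R S]
  [Group G] [Finite G] [MulSemiringAction G S] [SMulCommClass G R S] [Algebra.IsInvariant R S G]
  {P : Ideal R} [P.IsPrime] {Q : Ideal S} [Q.IsPrime] [Q.LiesOver P]

/-- the symbolic power -/
def symPow (Q : Ideal S) [Q.IsPrime] (k : ℕ) : Ideal S :=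
  (maximalIdeal (Localization.AtPrime Q) ^ k).comap (algebraMap S (Localization.AtPrime Q))

omit [IsNoetherianRing R] [Module.Finite R S] [Algebra R S] [Group G] [Finite G] [MulSemiringAction G S] in
theorem symPow_mono {k l : ℕ} (h : k ≤ l) : symPow Q l ≤ symPow Q k :=
  Ideal.comap_mono (Ideal.pow_le_pow_right h)

omit [IsNoetherianRing R] [Module.Finite R S] [Algebra R S] [Group G] [Finite G] [MulSemiringAction G S] in
theorem pow_le_symPow (k : ℕ) : Q ^ k ≤ symPow Q k :=
  Ideal.map_le_iff_le_comap.1 (by rw [Ideal.map_pow, Localization.AtPrime.map_eq_maximalIdeal])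

include G in
theorem exists_smul_eq {p : Ideal S} [p.IsPrime] (hp : p.comap (algebraMap R S) = P) :
    ∃ g : G, p = g • Q :=
  Algebra.IsInvariant.exists_smul_of_under_eq R S G Q p ((Ideal.LiesOver.over (P := Q) (p := P)).symm.trans hp.symm)

theorem comap_smul (g : G) : (g • Q).comap (algebraMap R S) = P :=
  (Ideal.under_smul R Q g).trans (Ideal.LiesOver.over (P := Q) (p := P)).symm

theorem mem_of_algebraMap (r : R) : algebraMap R S r ∈ Q ↔ r ∈ P := (Ideal.mem_of_liesOver Q P r).symm

theorem eq_of_le {p : Ideal S} [p.IsPrime] (hle : p ≤ Q) (hp : p.comap (algebraMap R S) = P) : p = Q := by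
  refine le_antisymm hle fun x hx => ?_
  by_contra hxp
  have := Ideal.comap_lt_comap_of_integral_mem_sdiff (R := R) hle ⟨hx, hxp⟩ (Algebra.IsIntegral.isIntegral x)
  have e : P = Q.comap (algebraMap R S) := Ideal.LiesOver.over
  rw [hp, ← e] at this
  exact lt_irrefl _ this

include G in
theorem exists_symPow_mul_mem (n : ℕ) :
    ∃ k : ℕ, ∀ w ∈ symPow Q k, ∃ u : S, u ∉ Q ∧ u * w ∈ (P.map (algebraMap R S)) ^ n := by
  haveI : IsNoetherianRing S := IsNoetherianRing.of_finite R S
  let SQ := Localization.AtPrime Q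
  let J : Ideal SQ := ((P.map (algebraMap R S)).map (algebraMap S SQ)) ^ n
  have hJ : maximalIdeal SQ ≤ J.radical := by
    rw [Ideal.radical_eq_sInf]
    refine le_sInf ?_
    rintro q ⟨hq, hqp⟩
    haveI := hqp
    have hq1 : (P.map (algebraMap R S)).map (algebraMap S SQ) ≤ q := hqp.le_of_pow_le hq
    let p := q.comap (algebraMap S SQ)
    haveI : p.IsPrime := hqp.comap _
    have hle : p ≤ Q := by
      intro x hx
      by_contra hxQ
      exact hqp.ne_top (Ideal.eq_top_of_isUnit_mem _ hx (IsLocalization.map_units SQ (⟨x, hxQ⟩ : Q.primeCompl)))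
    have hp : p.comap (algebraMap R S) = P := le_antisymm
      ((Ideal.comap_mono hle).trans (Ideal.LiesOver.over (P := Q) (p := P)).ge)
      (Ideal.map_le_iff_le_comap.1 (Ideal.map_le_iff_le_comap.1 hq1))
    have heq := eq_of_le (P := P) hle hp
    rw [← Localization.AtPrime.map_eq_maximalIdeal, Ideal.map_le_iff_le_comap]
    exact heq.ge
  obtain ⟨k, hk⟩ := Ideal.exists_pow_le_of_le_radical_of_fg hJ (maximalIdeal SQ).fg_of_isNoetherianRing
  refine ⟨k, fun w hw => ?_⟩
  have hw' : algebraMap S SQ w ∈ ((P.map (algebraMap R S)) ^ n).map (algebraMap S SQ) := by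
    rw [Ideal.map_pow]; exact hk hw
  obtain ⟨u, hu, huw⟩ := (IsLocalization.algebraMap_mem_map_algebraMap_iff Q.primeCompl SQ _ _).1 hw'
  exact ⟨u, hu, huw⟩

omit [IsNoetherianRing R] [Module.Finite R S] [Finite G] [Algebra.IsInvariant R S G] in
theorem smul_map_pow (g : G) (n : ℕ) {x : S} (hx : x ∈ (P.map (algebraMap R S)) ^ n) :
    g • x ∈ (P.map (algebraMap R S)) ^ n := by
  have h := Ideal.mem_map_of_mem (MulSemiringAction.toRingHom G S g) hx
  rw [Ideal.map_pow, Ideal.map_map] at h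
  have : (MulSemiringAction.toRingHom G S g).comp (algebraMap R S) = algebraMap R S :=
    RingHom.ext fun r => smul_algebraMap g r
  rwa [this] at h

/-- If every translate of `w` is in a high symbolic power, some multiple of `w` is in `P ^ n S`. -/
theorem exists_mul_mem (n : ℕ) :
    ∃ k : ℕ, ∀ w : S, (∀ h : G, h • w ∈ symPow Q k) →
      ∃ t : R, t ∉ P ∧ t • w ∈ (P.map (algebraMap R S)) ^ n := by
  obtain ⟨k, hk⟩ := exists_symPow_mul_mem (G := G) (P := P) (Q := Q) n
  refine ⟨k, fun w hw => ?_⟩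
  by_contra hne
  push Not at hne
  let C : Ideal S := (((P.map (algebraMap R S)) ^ n : Ideal S) : Submodule S S).colon {w}
  have hmemC : ∀ s, s ∈ C ↔ s * w ∈ (P.map (algebraMap R S)) ^ n := fun s => Submodule.mem_colon_singleton
  let M : Submonoid S := Submonoid.map (algebraMap R S : R →* S) P.primeCompl
  have hdisj : Disjoint (C : Set S) M := by
    rw [Set.disjoint_left]
    rintro _ hx ⟨t, ht, rfl⟩
    exact hne t ht (by rw [Algebra.smul_def]; exact (hmemC _).1 hx)
  obtain ⟨p, hp, hCp, hpM⟩ := Ideal.exists_le_prime_disjoint C M hdisj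
  have hpP : p.comap (algebraMap R S) = P := by
    refine le_antisymm (fun r hr => ?_) ?_
    · by_contra hrP
      exact Set.disjoint_left.1 hpM hr ⟨r, hrP, rfl⟩
    · have hle : (P.map (algebraMap R S)) ^ n ≤ p := fun x hx => hCp ((hmemC x).2 (Ideal.mul_mem_right _ _ hx))
      exact Ideal.map_le_iff_le_comap.1 (hp.le_of_pow_le hle)
  obtain ⟨g, hg⟩ := exists_smul_eq (G := G) (Q := Q) hpP
  obtain ⟨u, huQ, huw⟩ := hk _ (hw g⁻¹)
  have hC : g • u ∈ C := by
    rw [hmemC]
    have := smul_map_pow g n huw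
    rwa [smul_mul', smul_inv_smul] at this
  exact huQ (Ideal.smul_mem_pointwise_smul_iff.1 (hg ▸ hCp hC))

omit [Group G] [Finite G] [MulSemiringAction G S] in
theorem artinRees {M : Type u} [AddCommGroup M] [Module R M] [Module.Finite R M] (I : Ideal R)
    (f : S →ₗ[R] M) : ∃ c : ℕ, ∀ n, ∀ x : S, f x ∈ I ^ (n + c) • (⊤ : Submodule R M) →
      ∃ y ∈ I ^ n • (⊤ : Submodule R S), f y = f x := by
  obtain ⟨c, hc⟩ := I.exists_pow_inf_eq_pow_smul (LinearMap.range f)
  refine ⟨c, fun n x hx => ?_⟩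
  have h2 : f x ∈ I ^ (n + c - c) • (I ^ c • ⊤ ⊓ LinearMap.range f) := hc (n + c) (by omega) ▸ ⟨hx, x, rfl⟩
  rw [Nat.add_sub_cancel] at h2
  have h3 : f x ∈ Submodule.map f (I ^ n • (⊤ : Submodule R S)) := by
    rw [Submodule.map_smul'', Submodule.map_top]
    exact Submodule.smul_mono le_rfl inf_le_right h2
  exact Submodule.mem_map.1 h3

/-- An element which is invariant modulo a high symbolic power is invariant up to a multiple of `P ^ n`. -/
theorem exists_invariant (n : ℕ) :
    ∃ k : ℕ, n ≤ k ∧ ∀ z : S, (∀ h : G, h • z - z ∈ symPow Q k) →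
      ∃ t r : R, t ∉ P ∧ t • z - algebraMap R S r ∈ (P.map (algebraMap R S)) ^ n := by
  classical
  cases nonempty_fintype G
  let φ : S →ₗ[R] (G → S) := LinearMap.pi fun g =>
    (DistribSMul.toLinearMap R S g) - LinearMap.id
  obtain ⟨c, hc⟩ := artinRees P φ
  obtain ⟨k, hk⟩ := exists_mul_mem (G := G) (P := P) (Q := Q) (n + c)
  refine ⟨max n k, le_max_left _ _, fun z hz => ?_⟩
  have hz' : ∀ g h : G, h • (g • z - z) ∈ symPow Q k := fun g h => by
    have e : h • (g • z - z) = ((h * g) • z - z) - (h • z - z) := by rw [smul_sub, mul_smul]; ring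
    rw [e]
    exact symPow_mono (le_max_right n k) (sub_mem (hz _) (hz _))
  choose t ht htz using fun g => hk _ (hz' g)
  let T := ∏ g, t g
  have hT : T ∉ P := fun h => by
    obtain ⟨g, -, hg⟩ := (Ideal.IsPrime.prod_mem_iff).1 h
    exact ht g hg
  have hTz : φ (T • z) ∈ P ^ (n + c) • (⊤ : Submodule R (G → S)) := by
    rw [show φ (T • z) = ∑ g, LinearMap.single R (fun _ : G => S) g (φ (T • z) g) from
      (Finset.univ_sum_single _).symm]
    refine sum_mem fun g _ => ?_
    have hmem : φ (T • z) g ∈ P ^ (n + c) • (⊤ : Submodule R S) := by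
      rw [Ideal.smul_top_eq_map, Submodule.restrictScalars_mem, Ideal.map_pow]
      have : φ (T • z) g = (∏ x ∈ Finset.univ.erase g, t x) • (t g • (g • z - z)) := by
        rw [smul_smul, Finset.prod_erase_mul _ _ (Finset.mem_univ g)]
        simp [φ, T, smul_sub, smul_comm]
      rw [this, Algebra.smul_def]
      exact Ideal.mul_mem_left _ _ (htz g)
    have := Submodule.mem_map_of_mem (f := LinearMap.single R (fun _ : G => S) g) hmem
    rw [Submodule.map_smul''] at this
    exact Submodule.smul_mono le_rfl le_top this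
  obtain ⟨y, hy, hfy⟩ := hc n _ hTz
  have hinv : ∀ g : G, g • (T • z - y) = T • z - y := fun g => by
    have h1 := congr_fun hfy g
    simp only [φ, LinearMap.pi_apply, LinearMap.sub_apply, DistribSMul.toLinearMap_apply, LinearMap.id_apply] at h1
    rw [smul_sub]
    linear_combination -h1
  obtain ⟨r, hr⟩ := Algebra.IsInvariant.isInvariant (A := R) (T • z - y) hinv
  refine ⟨T, r, hT, ?_⟩
  rw [hr, sub_sub_cancel]
  rw [Ideal.smul_top_eq_map, Submodule.restrictScalars_mem, Ideal.map_pow] at hy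
  exact hy

include G in
theorem exists_chevalley [FaithfulSMul R S] (n : ℕ) :
    ∃ k : ℕ, ∀ r : R, algebraMap R S r ∈ symPow Q k → ∃ t : R, t ∉ P ∧ t * r ∈ P ^ n := by
  obtain ⟨c, hc⟩ := P.exists_pow_inf_eq_pow_smul (LinearMap.range (Algebra.linearMap R S))
  obtain ⟨k, hk⟩ := exists_mul_mem (G := G) (P := P) (Q := Q) (n + c)
  refine ⟨k, fun r hr => ?_⟩
  obtain ⟨t, ht, htr⟩ := hk (algebraMap R S r) fun h => by rwa [smul_algebraMap]
  refine ⟨t, ht, ?_⟩
  rw [Algebra.smul_def, ← map_mul] at htr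
  have h1 : algebraMap R S (t * r) ∈ P ^ (n + c) • ⊤ ⊓ LinearMap.range (Algebra.linearMap R S) := by
    refine ⟨?_, t * r, rfl⟩
    rw [Ideal.smul_top_eq_map]
    change _ ∈ Ideal.map _ _
    rwa [Ideal.map_pow]
  rw [hc (n + c) (by omega), Nat.add_sub_cancel] at h1
  have h2 : algebraMap R S (t * r) ∈ Submodule.map (Algebra.linearMap R S) (P ^ n) := by
    rw [← Ideal.mul_top (P ^ n), ← smul_eq_mul, Submodule.map_smul'', Submodule.map_top]
    exact Submodule.smul_mono le_rfl inf_le_right h1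
  obtain ⟨y, hy, hye⟩ := Submodule.mem_map.1 h2
  rwa [← FaithfulSMul.algebraMap_injective R S hye]

theorem exists_denominator {b : S} (hb : b ∉ Q) (k : ℕ) :
    ∃ h : S, ∃ r : R, r ∉ P ∧ b * h - algebraMap R S r ∈ symPow Q k := by
  have hlt := Ideal.comap_lt_comap_of_integral_mem_sdiff (R := R) (I := Q) (J := Q ⊔ Ideal.span {b}) le_sup_left
    ⟨Ideal.mem_sup_right (Ideal.mem_span_singleton_self b), hb⟩ (Algebra.IsIntegral.isIntegral b)
  obtain ⟨r, hr1, hr2⟩ := SetLike.exists_of_lt hlt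
  rw [Ideal.mem_comap, Submodule.mem_sup] at hr1
  obtain ⟨q, hq, c, hc, hqc⟩ := hr1
  obtain ⟨c', rfl⟩ := Ideal.mem_span_singleton.1 hc
  have hrP : r ∉ P := fun h => hr2 ((mem_of_algebraMap r).2 h)
  obtain ⟨w, hw⟩ : b ∣ algebraMap R S r ^ k - q ^ k :=
    (dvd_mul_right b c').trans (by rw [← hqc]; simpa using sub_dvd_pow_sub_pow (q + b * c') q k)
  refine ⟨w, r ^ k, fun h => hrP (Ideal.IsPrime.mem_of_pow_mem ‹_› k h), ?_⟩
  rw [← hw, map_pow, sub_sub_cancel_left, neg_mem_iff]
  exact pow_le_symPow k (Ideal.pow_mem_pow hq k)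

omit [Algebra R S] [IsNoetherianRing R] [Module.Finite R S] in
theorem smul_mem_symPow {g : G} (hg : g ∈ stabilizer G Q) {k : ℕ} {x : S} (hx : x ∈ symPow Q k) :
    g • x ∈ symPow Q k := by
  let f := MulSemiringAction.toRingHom G S g
  have hf : Q = Q.comap f := by
    ext y
    conv_rhs => rw [← mem_stabilizer_iff.1 hg]
    exact Ideal.smul_mem_pointwise_smul_iff.symm
  have h := Ideal.mem_map_of_mem (Localization.localRingHom Q Q f hf) hx
  rw [Localization.localRingHom_to_map, Ideal.map_pow] at h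
  exact Ideal.pow_right_mono (((local_hom_TFAE (Localization.localRingHom Q Q f hf)).out 0 2).1 (Localization.isLocalHom_localRingHom Q Q f hf)) k h

/-- An element close to a multiple of `s` whose translates are all close to it. -/
theorem exists_symmetrised (k : ℕ) (s : S) (hs : ∀ d ∈ stabilizer G Q, d • s - s ∈ symPow Q k) :
    ∃ z : S, ∃ r₀ : R, r₀ ∉ P ∧ z - algebraMap R S r₀ * s ∈ symPow Q k ∧
      ∀ h : G, h • z - z ∈ symPow Q k := by
  classical
  cases nonempty_fintype G
  have key : ∀ g : G, g ∉ stabilizer G Q → ∃ a ∈ g • Q, a ∉ Q := fun g hg => by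
    refine SetLike.not_le_iff_exists.1 fun hle => hg (mem_stabilizer_iff.2 ?_)
    haveI : (g • Q).IsPrime := Ideal.IsPrime.smul g
    exact eq_of_le (P := P) hle (comap_smul g)
  choose a ha ha' using key
  let e : S := ∏ g : G, if h : g ∈ stabilizer G Q then 1 else a g h ^ k
  have he : e ∉ Q := fun h => by
    obtain ⟨g, -, hg⟩ := Ideal.IsPrime.prod_mem_iff.1 h
    split_ifs at hg with hg'
    · exact Ideal.IsPrime.ne_top ‹_› ((Ideal.eq_top_iff_one _).2 hg)
    · exact ha' g hg' (Ideal.IsPrime.mem_of_pow_mem ‹_› k hg)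
  obtain ⟨h, r₀, hr₀, her⟩ := exists_denominator (P := P) he k
  have hfar : ∀ g : G, g ∉ stabilizer G Q → ∀ y, g • (e * y) ∈ symPow Q k := fun g hg y => by
    have hg' : g⁻¹ ∉ stabilizer G Q := fun h => hg (inv_inv g ▸ inv_mem h)
    have hmem : g • a g⁻¹ hg' ∈ Q := by
      have := Ideal.smul_mem_pointwise_smul_iff (a := g) |>.2 (ha g⁻¹ hg')
      rwa [smul_inv_smul] at this
    obtain ⟨c, hc⟩ := Finset.dvd_prod_of_mem (fun x => if h : x ∈ stabilizer G Q then (1 : S) else a x h ^ k)
      (Finset.mem_univ g⁻¹)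
    rw [dif_neg hg'] at hc
    rw [show e = _ from hc, smul_mul', smul_mul', smul_pow']
    exact Ideal.mul_mem_right _ _ (Ideal.mul_mem_right _ _ (pow_le_symPow k (Ideal.pow_mem_pow hmem k)))
  have hnear : ∀ d ∈ stabilizer G Q, d • (e * h * s) - algebraMap R S r₀ * s ∈ symPow Q k := fun d hd => by
    have e' : d • (e * h * s) - algebraMap R S r₀ * s
        = d • (e * h - algebraMap R S r₀) * d • s + algebraMap R S r₀ * (d • s - s) := by
      rw [smul_mul', smul_sub, smul_algebraMap]; ring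
    rw [e']
    exact add_mem (Ideal.mul_mem_right _ _ (smul_mem_symPow hd her)) (Ideal.mul_mem_left _ _ (hs d hd))
  let z : S := ∑ q : G ⧸ stabilizer G Q, q.out • (e * h * s)
  have hall : ∀ g : G, g • z - algebraMap R S r₀ * s ∈ symPow Q k := fun g => by
    simp only [z, Finset.smul_sum, smul_smul]
    rw [← Finset.add_sum_erase _ _ (Finset.mem_univ (QuotientGroup.mk g⁻¹)), add_sub_right_comm]
    refine add_mem (hnear _ ?_) (sum_mem fun q hq => ?_)
    · simpa using QuotientGroup.eq.1 (Quotient.out_eq' (QuotientGroup.mk g⁻¹ : G ⧸ stabilizer G Q)).symm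
    · rw [mul_assoc e h s]
      refine hfar _ (fun hmem => Finset.ne_of_mem_erase hq ?_) _
      rw [← Quotient.out_eq' q]
      exact (QuotientGroup.eq.2 (by simpa using hmem)).symm
  refine ⟨z, r₀, hr₀, by simpa using hall 1, fun g => ?_⟩
  simpa using sub_mem (hall g) (hall 1)

end Groth.Agent.DecompCplLib
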