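import Groth.Agent.DecompCplLib.Completion
import Groth.Agent.DecompCplLib.Approx

set_option autoImplicit false
universe u

namespace Groth.Agent.DecompCplLib

open scoped Pointwise
open IsLocalRing MulAction

variable {R S G : Type u} [CommRing R] [CommRing S] [IsDomain S] [IsNoetherianRing R] [Algebra R S]
  [FaithfulSMul R S] [Module.Finite R S] [Group G] [Finite G] [MulSemiringAction G S] [SMulCommClass G R S]
  [FaithfulSMul G S] [Algebra.IsInvariant R S G]
  {P : Ideal R} [P.IsPrime] {Q : Ideal S} [Q.IsPrime] [Q.LiesOver P]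

local notation "RH" => AdicCompletion (maximalIdeal (Localization.AtPrime P)) (Localization.AtPrime P)
local notation "SH" => AdicCompletion (maximalIdeal (Localization.AtPrime Q)) (Localization.AtPrime Q)

theorem isGaloisGroup [MulSemiringAction (stabilizer G Q) SH]
    (hact : ∀ (g : stabilizer G Q) (s : S),
      g • algebraMap (Localization.AtPrime Q) SH (algebraMap S (Localization.AtPrime Q) s) =
        algebraMap (Localization.AtPrime Q) SH (algebraMap S (Localization.AtPrime Q) (g • s)))
    [Algebra RH SH]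
    (halg : ∀ r : R,
      algebraMap RH SH (algebraMap (Localization.AtPrime P) RH (algebraMap R (Localization.AtPrime P) r)) =
        algebraMap (Localization.AtPrime Q) SH (algebraMap S (Localization.AtPrime Q) (algebraMap R S r))) :
    IsGaloisGroup (stabilizer G Q) RH SH := by
  haveI : IsNoetherianRing S := IsNoetherianRing.of_finite R S
  let ρ : R →+* RH := (algebraMap (Localization.AtPrime P) RH).comp (algebraMap R (Localization.AtPrime P))
  let ι : S →+* SH := (algebraMap (Localization.AtPrime Q) SH).comp (algebraMap S (Localization.AtPrime Q))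
  let j : RH →+* SH := algebraMap RH SH
  have hj : ∀ r, j (ρ r) = ι (algebraMap R S r) := halg
  have hι : ∀ k s, ι s ∈ maximalIdeal SH ^ k ↔ s ∈ symPow Q k := fun k s => algebraMap_mem_pow_iff k _
  have hρ : ∀ n r, ρ r ∈ maximalIdeal RH ^ n ↔
      algebraMap R (Localization.AtPrime P) r ∈ maximalIdeal (Localization.AtPrime P) ^ n :=
    fun n r => algebraMap_mem_pow_iff n _
  have hρu : ∀ t : R, t ∉ P → IsUnit (ρ t) := fun t ht =>
    (IsLocalization.map_units (Localization.AtPrime P) (⟨t, ht⟩ : P.primeCompl)).map (algebraMap (Localization.AtPrime P) RH)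
  have hmax : maximalIdeal RH = P.map ρ := by
    exact AdicCompletion.maximalIdeal_eq_map.trans ((congrArg (Ideal.map (algebraMap (Localization.AtPrime P) RH))
      Localization.AtPrime.map_eq_maximalIdeal.symm).trans (Ideal.map_map _ _))
  have hjloc : ∀ n, ∀ y ∈ maximalIdeal RH ^ n, j y ∈ maximalIdeal SH ^ n := by
    intro n y hy
    have h1 : (maximalIdeal RH).map j ≤ maximalIdeal SH := by
      rw [hmax, Ideal.map_map, Ideal.map_le_iff_le_comap]
      intro r hr
      rw [Ideal.mem_comap, RingHom.comp_apply, hj, ← pow_one (maximalIdeal SH), hι]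
      exact pow_le_symPow 1 (by rw [pow_one]; exact (mem_of_algebraMap r).2 hr)
    have := Ideal.mem_map_of_mem j hy
    rw [Ideal.map_pow] at this
    exact Ideal.pow_right_mono h1 n this
  have hgloc : ∀ (d : stabilizer G Q) k, ∀ x ∈ maximalIdeal SH ^ k, d • x ∈ maximalIdeal SH ^ k := by
    intro d k x hx
    have h1 : (maximalIdeal SH).map (MulSemiringAction.toRingHom (stabilizer G Q) SH d) ≤ maximalIdeal SH := by
      rw [Ideal.map_le_iff_le_comap]
      intro y hy
      rw [Ideal.mem_comap, mem_maximalIdeal, mem_nonunits_iff] at *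
      intro h
      have := h.map (MulSemiringAction.toRingHom (stabilizer G Q) SH d⁻¹)
      rw [MulSemiringAction.toRingHom_apply, MulSemiringAction.toRingHom_apply, inv_smul_smul] at this
      exact hy this
    have := Ideal.mem_map_of_mem (MulSemiringAction.toRingHom (stabilizer G Q) SH d) hx
    rw [Ideal.map_pow] at this
    exact Ideal.pow_right_mono h1 k this
  -- approximation of the two completions by fractions
  have approxR : ∀ n (y : RH), ∃ r t : R, t ∉ P ∧ ρ t * y - ρ r ∈ maximalIdeal RH ^ n := by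
    intro n y
    obtain ⟨a, ha⟩ := exists_approx n y
    obtain ⟨⟨r, t⟩, hrt⟩ := IsLocalization.surj P.primeCompl a
    refine ⟨r, t, t.2, ?_⟩
    have e : ρ t * y - ρ r = ρ t * (y - algebraMap _ RH a) := by
      simp only [ρ, RingHom.comp_apply]; rw [← hrt, map_mul]; ring
    rw [e]; exact Ideal.mul_mem_left _ _ ha
  have approxS : ∀ k (x : SH), ∃ (s : S) (r : R), r ∉ P ∧ j (ρ r) * x - ι s ∈ maximalIdeal SH ^ k := by
    intro k x
    obtain ⟨a, ha⟩ := exists_approx k x
    obtain ⟨⟨c, b⟩, hcb⟩ := IsLocalization.surj Q.primeCompl a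
    obtain ⟨h, r, hr, hbr⟩ := exists_denominator (P := P) b.2 k
    refine ⟨c * h, r, hr, ?_⟩
    have e : j (ρ r) * x - ι (c * h) =
        ι (b * h) * (x - algebraMap _ SH a) - ι ((b : S) * h - algebraMap R S r) * x := by
      rw [hj, map_sub, map_mul ι c h, map_mul ι (b : S) h]
      simp only [ι, RingHom.comp_apply]
      rw [← hcb, map_mul]; ring
    rw [e]
    exact sub_mem (Ideal.mul_mem_left _ _ ha) (Ideal.mul_mem_right _ _ ((hι _ _).2 hbr))
  have key : ∀ n, ∃ k, ∀ y : RH, j y ∈ maximalIdeal SH ^ k → y ∈ maximalIdeal RH ^ n := by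
    intro n
    obtain ⟨k, hk⟩ := exists_chevalley (G := G) (P := P) (Q := Q) n
    refine ⟨k, fun y hy => ?_⟩
    obtain ⟨r, t, ht, hrt⟩ := approxR (max n k) y
    have h1 : j (ρ r) ∈ maximalIdeal SH ^ k := by
      have e : j (ρ r) = j (ρ t) * j y - j (ρ t * y - ρ r) := by rw [map_sub, map_mul]; ring
      rw [e]
      exact sub_mem (Ideal.mul_mem_left _ _ hy) (Ideal.pow_le_pow_right (le_max_right n k) (hjloc _ _ hrt))
    rw [hj, hι] at h1
    obtain ⟨t', ht', h'⟩ := hk r h1
    have h2 : ρ t' * ρ r ∈ maximalIdeal RH ^ n := by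
      rw [← map_mul, hmax, ← Ideal.map_pow]; exact Ideal.mem_map_of_mem ρ h'
    have h3 : ρ r ∈ maximalIdeal RH ^ n := (Ideal.unit_mul_mem_iff_mem _ (hρu t' ht')).1 h2
    have h4 : ρ t * y ∈ maximalIdeal RH ^ n := by
      simpa using add_mem (Ideal.pow_le_pow_right (le_max_left n k) hrt) h3
    exact (Ideal.unit_mul_mem_iff_mem _ (hρu t ht)).1 h4
  have hfix : ∀ (d : stabilizer G Q) (y : RH), d • j y = j y := by
    intro d y
    refine eq_of_forall_sub_mem fun k => ?_
    obtain ⟨r, t, ht, hrt⟩ := approxR k y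
    have h1 := hjloc _ _ hrt
    rw [map_sub, map_mul, hj, hj] at h1
    have h2 := hgloc d _ _ h1
    have hι' : ∀ s : S, d • ι s = ι (d • s) := fun s => hact d s
    rw [smul_sub, smul_mul', hι', hι'] at h2
    have hs : ∀ r : R, d • algebraMap R S r = algebraMap R S r := fun r => smul_algebraMap (d : G) r
    rw [hs, hs] at h2
    have h3 := sub_mem h2 h1
    have e : ι (algebraMap R S t) * (d • j y - j y) =
        (ι (algebraMap R S t) * d • j y - ι (algebraMap R S r)) -
        (ι (algebraMap R S t) * j y - ι (algebraMap R S r)) := by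
      ring
    rw [← e] at h3
    exact (Ideal.unit_mul_mem_iff_mem _ (by rw [← hj]; exact (hρu t ht).map j)).1 h3
  refine ⟨⟨fun {g h} hgh => ?_⟩, ⟨fun d y x => ?_⟩, ⟨fun x hx => ?_⟩⟩
  · have hinj : Function.Injective ι := by
      refine Function.Injective.comp (g := algebraMap (Localization.AtPrime Q) SH) ?_
        (IsLocalization.injective (Localization.AtPrime Q) Q.primeCompl_le_nonZeroDivisors)
      intro a b hab
      rw [← sub_eq_zero, ← map_sub] at hab
      have : ∀ n, a - b ∈ maximalIdeal (Localization.AtPrime Q) ^ n := fun n =>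
        (algebraMap_mem_pow_iff n _).1 (by rw [hab]; exact zero_mem _)
      exact sub_eq_zero.1 (IsHausdorff.haus (I := maximalIdeal (Localization.AtPrime Q)) inferInstance _
        fun n => by rw [SModEq.zero, smul_eq_mul, Ideal.mul_top]; exact this n)
    refine Subtype.ext (FaithfulSMul.eq_of_smul_eq_smul fun s => hinj ?_)
    have := hgh (ι s)
    exact (hact g s).symm.trans (this.trans (hact h s))
  · rw [Algebra.smul_def, Algebra.smul_def, smul_mul', hfix]
  · have step : ∀ n, ∃ y : RH, x - j y ∈ maximalIdeal SH ^ n := by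
      intro n
      obtain ⟨k, hnk, hk⟩ := exists_invariant (G := G) (P := P) (Q := Q) n
      obtain ⟨s, r₁, hr₁, hs⟩ := approxS k x
      have hd : ∀ d ∈ stabilizer G Q, d • s - s ∈ symPow Q k := fun d hd => by
        have h1 := hgloc ⟨d, hd⟩ _ _ hs
        rw [smul_sub, smul_mul', hfix, hx, show (⟨d, hd⟩ : stabilizer G Q) • ι s = ι (d • s) from hact ⟨d, hd⟩ s] at h1
        rw [← hι, map_sub]
        simpa using sub_mem hs h1
      obtain ⟨z, r₀, hr₀, hz1, hz2⟩ := exists_symmetrised (P := P) k s hd
      obtain ⟨t, r, ht, htr⟩ := hk z hz2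
      obtain ⟨v, hv⟩ := (hρu _ (show t * r₀ * r₁ ∉ P from fun h =>
        ((Ideal.IsPrime.mem_or_mem ‹_› h).elim (fun h' => (Ideal.IsPrime.mem_or_mem ‹_› h').elim ht hr₀) hr₁)))
      refine ⟨↑v⁻¹ * ρ r, ?_⟩
      have h1 : ι (t • z - algebraMap R S r) ∈ maximalIdeal SH ^ n := by
        have := Ideal.mem_map_of_mem ι htr
        rw [Ideal.map_pow, Ideal.map_map] at this
        refine Ideal.pow_right_mono ?_ n this
        rw [Ideal.map_le_iff_le_comap]
        intro p hp
        rw [Ideal.mem_comap, RingHom.comp_apply, ← pow_one (maximalIdeal SH), hι]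
        exact pow_le_symPow 1 (by rw [pow_one]; exact (mem_of_algebraMap p).2 hp)
      have h2 : j (↑v : RH) * (x - j (↑v⁻¹ * ρ r)) ∈ maximalIdeal SH ^ n := by
        rw [mul_sub, ← map_mul, ← mul_assoc, Units.mul_inv, one_mul, hv]
        have e : j (ρ (t * r₀ * r₁)) * x - j (ρ r) = j (ρ (t * r₀)) * (j (ρ r₁) * x - ι s) -
            ι (algebraMap R S t) * ι (z - algebraMap R S r₀ * s) + ι (t • z - algebraMap R S r) := by
          simp only [map_mul, map_sub, hj, Algebra.smul_def]; ring
        rw [e]
        refine add_mem (sub_mem (Ideal.mul_mem_left _ _ (Ideal.pow_le_pow_right hnk hs)) ?_) h1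
        exact Ideal.mul_mem_left _ _ ((hι _ _).2 (symPow_mono hnk hz1))
      exact (Ideal.unit_mul_mem_iff_mem _ (v.isUnit.map j)).1 h2
    choose y hy using step
    choose K hK using key
    let N : ℕ → ℕ := fun n => n + ∑ m ∈ Finset.range (n + 1), K m
    obtain ⟨L, hL⟩ := exists_limit (fun n => y (N n)) (fun {m n} hmn => by
      refine hK m _ ?_
      have hKm : ∀ l, m ≤ l → K m ≤ N l := fun l hl =>
        (Finset.single_le_sum (f := K) (fun _ _ => Nat.zero_le _) (Finset.mem_range.2 (Nat.lt_succ_of_le hl))).trans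
          (Nat.le_add_left _ _)
      rw [map_sub]
      simpa using sub_mem (Ideal.pow_le_pow_right (hKm n hmn) (hy (N n)))
        (Ideal.pow_le_pow_right (hKm m le_rfl) (hy (N m))))
    refine ⟨L, (eq_of_forall_sub_mem fun n => ?_).symm⟩
    have := add_mem (Ideal.pow_le_pow_right (Nat.le_add_right n _) (hy (N n))) (hjloc n _ (hL n))
    rwa [map_sub, sub_add_sub_cancel] at this

end Groth.Agent.DecompCplLib
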